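/-
The finite checks of the certificate that `L2(7)` is not maximal in `SU3(5)`.
-/
import Cfsg.Agent.Geo.DimThree.CertU35.Data

set_option autoImplicit false

namespace CfsgLib.Geo.D3.CertU35

/-- A vector in codes. -/
abbrev Vec := ℕ × ℕ × ℕ

/-- A matrix in codes, by rows. -/
abbrev Mx := Vec × Vec × Vec

/-- The sum of two codes. -/
def qa (x y : ℕ) : ℕ := (x + y) % 5 + 5 * ((x / 5 + y / 5) % 5)

/-- The product of two codes. -/
def qm (x y : ℕ) : ℕ := (x * y + 2 * (x / 5) * (y / 5)) % 5 + 5 * ((x * (y / 5) + x / 5 * y) % 5)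

/-- The conjugate of a code. -/
def qc (x : ℕ) : ℕ := x % 5 + 5 * (4 * (x / 5) % 5)

/-- Dot product. -/
def dot (u v : Vec) : ℕ := qa (qa (qm u.1 v.1) (qm u.2.1 v.2.1)) (qm u.2.2 v.2.2)

/-- Matrix times vector. -/
def mv (A : Mx) (v : Vec) : Vec := (dot A.1 v, dot A.2.1 v, dot A.2.2 v)

/-- Transpose. -/
def tp (A : Mx) : Mx :=
  ((A.1.1, A.2.1.1, A.2.2.1), (A.1.2.1, A.2.1.2.1, A.2.2.2.1), (A.1.2.2, A.2.1.2.2, A.2.2.2.2))

/-- Matrix product. -/
def mm (A B : Mx) : Mx := tp (mv A (tp B).1, mv A (tp B).2.1, mv A (tp B).2.2)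

/-- Conjugate of a vector. -/
def cv (v : Vec) : Vec := (qc v.1, qc v.2.1, qc v.2.2)

/-- The Gram matrix of the columns. -/
def gm (A : Mx) : Mx := mm (tp A) (cv A.1, cv A.2.1, cv A.2.2)

/-- Trace. -/
def tr (A : Mx) : ℕ := qa (qa A.1.1 A.2.1.2.1) A.2.2.2.2

/-- A multiple of a vector. -/
def sv (t : ℕ) (v : Vec) : Vec := (qm t v.1, qm t v.2.1, qm t v.2.2)

/-- A multiple of a matrix. -/
def sm (t : ℕ) (A : Mx) : Mx := (sv t A.1, sv t A.2.1, sv t A.2.2)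

/-- The sum of two matrices. -/
def am (A B : Mx) : Mx :=
  ((qa A.1.1 B.1.1, qa A.1.2.1 B.1.2.1, qa A.1.2.2 B.1.2.2),
    (qa A.2.1.1 B.2.1.1, qa A.2.1.2.1 B.2.1.2.1, qa A.2.1.2.2 B.2.1.2.2),
    (qa A.2.2.1 B.2.2.1, qa A.2.2.2.1 B.2.2.2.1, qa A.2.2.2.2 B.2.2.2.2))

/-- Determinant. -/
def dt (A : Mx) : ℕ :=
  qa (qa (qm A.1.1 (qm A.2.1.2.1 A.2.2.2.2)) (qa (qm A.1.2.1 (qm A.2.1.2.2 A.2.2.1))
      (qm A.1.2.2 (qm A.2.1.1 A.2.2.2.1))))
    (qm 4 (qa (qm A.1.2.2 (qm A.2.1.2.1 A.2.2.1)) (qa (qm A.1.2.1 (qm A.2.1.1 A.2.2.2.2))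
      (qm A.1.1 (qm A.2.1.2.2 A.2.2.2.1)))))

/-- Unpack a vector. -/
def decV (n : ℕ) : Vec := (n % 25, n / 25 % 25, n / 625 % 25)

/-- Unpack a matrix. -/
def dec (n : ℕ) : Mx := (decV n, decV (n / 15625), decV (n / 244140625))

/-- The identity. -/
def idM : Mx := ((1, 0, 0), (0, 1, 0), (0, 0, 1))

/-- The matrix of an element of `SL2(7)` with entries `a b c d`. -/
def tb (a b c d : ℕ) : Mx :=
  dec (tabData.getD ((c * 7 + d) * 7 + if c = 0 then b else a) 0)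

/-- The witness of an element. -/
def wt (a b c d : ℕ) : ℕ := witData.getD ((c * 7 + d) * 7 + if c = 0 then b else a) 0

/-- The six representatives. -/
def rep : ℕ → ℕ × ℕ × ℕ × ℕ
  | 0 => (1, 0, 0, 1)
  | 1 => (0, 6, 1, 0)
  | 2 => (0, 6, 1, 1)
  | 3 => (0, 6, 1, 3)
  | 4 => (1, 1, 0, 1)
  | _ => (1, 6, 0, 1)

/-- The representative of an element. -/
def repr (a b c d : ℕ) : ℕ := wt a b c d % 6

/-- The conjugating element of an element. -/
def conjr (a b c d : ℕ) : ℕ × ℕ × ℕ × ℕ :=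
  let n := wt a b c d / 6
  (n % 7, n / 7 % 7, n / 49 % 7, n / 343 % 7)

/-- Membership in `SL2(7)`. -/
def isSL (a b c d : ℕ) : Bool := (a * d + 6 * b * c) % 7 == 1

/-- A condition on all elements of `SL2(7)`. -/
def allSL (p : ℕ → ℕ → ℕ → ℕ → Bool) : Bool :=
  (List.range 7).all fun a => (List.range 7).all fun b => (List.range 7).all fun c => (List.range 7).all fun d =>
    !isSL a b c d || p a b c d

theorem allSL_spec {p : ℕ → ℕ → ℕ → ℕ → Bool} (h : allSL p = true) {a b c d : ℕ}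
    (ha : a < 7) (hb : b < 7) (hc : c < 7) (hd : d < 7) (hs : (a * d + 6 * b * c) % 7 = 1) : p a b c d = true := by
  simp only [allSL, List.all_eq_true, List.mem_range] at h
  have := h a ha b hb c hc d hd
  simpa [isSL, hs] using this

/-- The product in `SL2(7)`. -/
def m7 (x y : ℕ × ℕ × ℕ × ℕ) : ℕ × ℕ × ℕ × ℕ :=
  ((x.1 * y.1 + x.2.1 * y.2.2.1) % 7, (x.1 * y.2.1 + x.2.1 * y.2.2.2) % 7,
    (x.2.2.1 * y.1 + x.2.2.2 * y.2.2.1) % 7, (x.2.2.1 * y.2.1 + x.2.2.2 * y.2.2.2) % 7)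

/-- Negation in `SL2(7)`. -/
def n7 (x : ℕ × ℕ × ℕ × ℕ) : ℕ × ℕ × ℕ × ℕ :=
  (6 * x.1 % 7, 6 * x.2.1 % 7, 6 * x.2.2.1 % 7, 6 * x.2.2.2 % 7)

/-- The image of `[[1,1],[0,1]]`. -/
def Tm : Mx := tb 1 1 0 1

/-- The image of `[[0,-1],[1,0]]`. -/
def Sm : Mx := tb 0 6 1 0

/-- The extra element. -/
def Cm : Mx := dec cData

/-- The permutation matrix moving a line. -/
def Pm : Mx := ((0, 0, 1), (1, 0, 0), (0, 1, 0))

theorem check_one : tb 1 0 0 1 = idM ∧ tb 6 0 0 6 = idM := by decide +kernel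

theorem check_gen : allSL (fun a b c d =>
    mm Tm (tb a b c d) == tb ((a + c) % 7) ((b + d) % 7) c d &&
      mm Sm (tb a b c d) == tb (6 * c % 7) (6 * d % 7) a b) = true := by decide +kernel

theorem check_unitary : gm Tm = idM ∧ gm Sm = idM ∧ gm Cm = idM ∧ gm Pm = idM ∧
    dt Tm = 1 ∧ dt Sm = 1 ∧ dt Cm = 1 ∧ dt Pm = 1 := by decide +kernel

theorem check_wit : allSL (fun a b c d =>
    let y := conjr a b c d
    let l := m7 (a, b, c, d) y
    let r := m7 y (rep (repr a b c d))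
    isSL y.1 y.2.1 y.2.2.1 y.2.2.2 && (l == r || l == n7 r)) = true := by decide +kernel

theorem check_rep_trace : tr (tb 1 0 0 1) = 3 ∧ tr (tb 0 6 1 0) = 4 ∧ tr (tb 0 6 1 1) = 0 ∧
    tr (tb 0 6 1 3) = 1 ∧ tr (tb 1 1 0 1) = 7 ∧ tr (tb 1 6 0 1) = 22 := by decide +kernel

theorem check_rep_pow : repr 1 2 0 1 = 4 ∧ repr 1 4 0 1 = 4 ∧ repr 3 1 6 0 = 3 := by decide +kernel

theorem check_cent : allSL (fun a b c d =>
    !(mm (tb a b c d) (tb a b c d) == idM &&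
        mm (mm (tb a b c d) Tm) (mm (mm (tb a b c d) Tm) (mm (tb a b c d) Tm)) == idM) ||
      (List.range 7).any fun k => tb a b c d == mm (tb 1 k 0 1) (mm Sm (tb 1 ((7 - k) % 7) 0 1))) = true := by
  decide +kernel

theorem check_centre : allSL (fun a b c d =>
    !(m7 (1, 1, 0, 1) (a, b, c, d) == m7 (a, b, c, d) (1, 1, 0, 1) &&
        m7 (0, 6, 1, 0) (a, b, c, d) == m7 (a, b, c, d) (0, 6, 1, 0)) ||
      ((a, b, c, d) == (1, 0, 0, 1) || (a, b, c, d) == (6, 0, 0, 6))) = true := by decide +kernel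

theorem check_extra : allSL (fun a b c d =>
    (List.range 25).all fun t => !(sm t (tb a b c d) == Cm)) = true := by decide +kernel

/-- The combination of the nine spanning matrices with given coefficients. -/
def comb (cs : List ℕ) : Mx :=
  (List.range 9).foldr (fun k A =>
    let x := spanData.getD k (1, 0, 0, 1)
    am (sm (cs.getD k 0) (tb x.1 x.2.1 x.2.2.1 x.2.2.2)) A) ((0, 0, 0), (0, 0, 0), (0, 0, 0))

/-- A matrix unit. -/
def unitM (u : ℕ) : Mx := dec (25 ^ u)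

theorem check_span : ∀ u < 9, comb (coefData.getD u []) = unitM u := by decide +kernel

theorem check_span_sl : ∀ x ∈ spanData, x.1 < 7 ∧ x.2.1 < 7 ∧ x.2.2.1 < 7 ∧ x.2.2.2 < 7 ∧
    (x.1 * x.2.2.2 + 6 * x.2.1 * x.2.2.1) % 7 = 1 := by decide +kernel

/-- The lines. -/
def om (i : ℕ) : Vec := decV (omData.getD i 0)

theorem check_trans : ∀ i < 105, ∀ g < 3,
    let G := [Sm, Tm, Cm].getD g idM
    let e := (transData.getD g []).getD i 0
    e / 25 < 105 ∧ e % 25 ≠ 0 ∧ mv G (om i) = sv (e % 25) (om (e / 25)) := by decide +kernel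

theorem check_moved : movedData < 105 ∧
    ∀ j < 105, ∀ t < 25, mv Pm (om movedData) ≠ sv t (om j) := by decide +kernel

theorem check_norm : ∀ l < 5, l ≠ 0 → ∃ m < 25, m ≠ 0 ∧ qm m (qc m) = l := by decide +kernel

theorem check_fixed : ∀ l < 25, qc l = l → l < 5 := by decide +kernel

theorem check_sq_two : ∀ a < 5, ∀ b < 5, (a * a + 3 * (b * b)) % 5 = 0 → a = 0 ∧ b = 0 := by decide +kernel

end CfsgLib.Geo.D3.CertU35
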