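/-
The codes read in a field of characteristic five with a square root of two.
-/
import Mathlib
import Cfsg.Agent.Geo.DimThree.CertU35.Checks

set_option autoImplicit false
set_option linter.unusedSectionVars false
set_option linter.style.haveILetI false

namespace CfsgLib.Geo.D3.CertU35

open Matrix

variable {F : Type*} [Field F]

/-- The hypotheses on the square root `e`. -/
structure Root (e : F) : Prop where
  five : (5 : F) = 0
  sq : e * e = 2

/-- The value of a code. -/
def toF (e : F) (x : ℕ) : F := (x : F) + ((x / 5 : ℕ) : F) * e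

/-- The value of a vector. -/
def toV (e : F) (v : Vec) : Fin 3 → F := ![toF e v.1, toF e v.2.1, toF e v.2.2]

/-- The value of a matrix. -/
def toM (e : F) (A : Mx) : Matrix (Fin 3) (Fin 3) F :=
  Matrix.of ![toV e A.1, toV e A.2.1, toV e A.2.2]

variable {e : F} (hr : Root e)
include hr

lemma Root.cast_mod (n : ℕ) : ((n % 5 : ℕ) : F) = (n : F) := by
  conv_rhs => rw [← Nat.mod_add_div n 5]
  rw [Nat.cast_add, Nat.cast_mul, show ((5 : ℕ) : F) = 0 by simpa using hr.five, zero_mul, add_zero]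

lemma Root.toF_pair (a b : ℕ) : toF e (a % 5 + 5 * (b % 5)) = (a : F) + (b : F) * e := by
  rw [toF, show (a % 5 + 5 * (b % 5)) / 5 = b % 5 by omega, Nat.cast_add, Nat.cast_mul,
    show ((5 : ℕ) : F) = 0 by simpa using hr.five, zero_mul, add_zero, hr.cast_mod, hr.cast_mod]

lemma Root.toF_qa (x y : ℕ) : toF e (qa x y) = toF e x + toF e y := by
  rw [qa, hr.toF_pair]
  simp only [toF, Nat.cast_add]
  ring

lemma Root.toF_qm (x y : ℕ) : toF e (qm x y) = toF e x * toF e y := by
  rw [qm, hr.toF_pair]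
  simp only [toF, Nat.cast_add, Nat.cast_mul, Nat.cast_ofNat]
  linear_combination (-((x / 5 : ℕ) : F) * ((y / 5 : ℕ) : F)) * hr.sq

lemma Root.e_pow : e ^ 5 = -e := by
  linear_combination (e ^ 3 + 2 * e) * hr.sq + e * hr.five

lemma Root.toF_qc (x : ℕ) : toF e (qc x) = toF e x ^ 5 := by
  haveI : Fact (Nat.Prime 5) := ⟨by norm_num⟩
  haveI : CharP F 5 := (CharP.charP_iff_prime_eq_zero (by norm_num)).2 (by simpa using hr.five)
  have hn : ∀ n : ℕ, ((n : F)) ^ 5 = (n : F) := fun n => by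
    rw [← map_natCast (ZMod.castHom (dvd_refl 5) F) n, ← map_pow, ZMod.pow_card]
  rw [qc, hr.toF_pair, toF, add_pow_char, mul_pow, hn, hn, hr.e_pow, Nat.cast_mul]
  linear_combination (((x / 5 : ℕ) : F) * e) * hr.five

lemma Root.toF_inj {x y : ℕ} (hx : x < 25) (hy : y < 25) (h : toF e x = toF e y) : x = y := by
  haveI : Fact (Nat.Prime 5) := ⟨by norm_num⟩
  haveI : CharP F 5 := (CharP.charP_iff_prime_eq_zero (by norm_num)).2 (by simpa using hr.five)
  obtain ⟨a, ha, hae⟩ : ∃ a < 5, ((a : ℕ) : F) = (x : F) - (y : F) :=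
    ⟨(x + 4 * y) % 5, Nat.mod_lt _ (by norm_num), by
      rw [hr.cast_mod]; push_cast; linear_combination (y : F) * hr.five⟩
  obtain ⟨b, hb, hbe⟩ : ∃ b < 5, ((b : ℕ) : F) = ((x / 5 : ℕ) : F) - ((y / 5 : ℕ) : F) :=
    ⟨(x / 5 + 4 * (y / 5)) % 5, Nat.mod_lt _ (by norm_num), by
      rw [hr.cast_mod]; push_cast; linear_combination ((y / 5 : ℕ) : F) * hr.five⟩
  have h0 : (a : F) + (b : F) * e = 0 := by rw [hae, hbe]; simp only [toF] at h; linear_combination h
  have h1 : ((a * a + 3 * (b * b) : ℕ) : F) = 0 := by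
    push_cast
    linear_combination ((a : F) - (b : F) * e) * h0 + ((b : F) * (b : F)) * hr.sq +
      ((b : F) * (b : F)) * hr.five
  obtain ⟨rfl, rfl⟩ := check_sq_two a ha b hb (Nat.mod_eq_zero_of_dvd ((CharP.cast_eq_zero_iff F 5 _).1 h1))
  rw [Nat.cast_zero] at hae hbe
  have e1 := (CharP.natCast_eq_natCast F 5).1 (sub_eq_zero.1 hae.symm)
  have e2 := (CharP.natCast_eq_natCast F 5).1 (sub_eq_zero.1 hbe.symm)
  simp only [Nat.ModEq] at e1 e2
  omega

omit hr in
lemma toF_zero : toF e 0 = 0 := by simp [toF]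

omit hr in
lemma toF_one : toF e 1 = 1 := by simp [toF]

omit hr in
lemma toF_small {x : ℕ} (h : x < 5) : toF e x = (x : F) := by simp [toF, Nat.div_eq_of_lt h]

lemma Root.toF_surj [Fintype F] (hF : Fintype.card F = 5 ^ 2) (a : F) : ∃ x < 25, toF e x = a := by
  classical
  have hinj : Function.Injective fun i : Fin 25 => toF e i :=
    fun i j hij => Fin.ext (hr.toF_inj i.2 j.2 hij)
  obtain ⟨i, hi⟩ := ((Fintype.bijective_iff_injective_and_card _).2 ⟨hinj, by simp [hF]⟩).2 a
  exact ⟨i, i.2, hi⟩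

omit hr in
lemma toM_id : toM e idM = 1 := by
  ext i j
  fin_cases i <;> fin_cases j <;> simp [toM, toV, idM, toF_zero, toF_one]

lemma Root.toM_mm (A B : Mx) : toM e (mm A B) = toM e A * toM e B := by
  ext i j
  fin_cases i <;> fin_cases j <;>
    simp [toM, toV, mm, tp, mv, dot, Matrix.mul_apply, Fin.sum_univ_three, hr.toF_qa, hr.toF_qm]

lemma Root.toV_mv (A : Mx) (v : Vec) : toV e (mv A v) = toM e A *ᵥ toV e v := by
  ext i
  fin_cases i <;>
    simp [toM, toV, mv, dot, Matrix.mulVec, dotProduct, Fin.sum_univ_three, hr.toF_qa, hr.toF_qm]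

lemma Root.toV_sv (t : ℕ) (v : Vec) : toV e (sv t v) = toF e t • toV e v := by
  ext i
  fin_cases i <;> simp [toV, sv, hr.toF_qm]

lemma Root.toM_sm (t : ℕ) (A : Mx) : toM e (sm t A) = toF e t • toM e A := by
  ext i j
  fin_cases i <;> fin_cases j <;> simp [toM, toV, sm, sv, hr.toF_qm]

lemma Root.toM_am (A B : Mx) : toM e (am A B) = toM e A + toM e B := by
  ext i j
  fin_cases i <;> fin_cases j <;> simp [toM, toV, am, hr.toF_qa]

lemma Root.trace_toM (A : Mx) : (toM e A).trace = toF e (tr A) := by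
  simp [toM, toV, tr, Matrix.trace_fin_three, hr.toF_qa]

lemma Root.toF_four : toF e 4 = -1 := by
  rw [toF_small (by norm_num)]
  push_cast
  linear_combination hr.five

lemma Root.det_toM (A : Mx) : (toM e A).det = toF e (dt A) := by
  simp [toM, toV, dt, Matrix.det_fin_three, hr.toF_qa, hr.toF_qm, hr.toF_four]
  ring

lemma Root.toM_gm (A : Mx) : toM e (gm A) = (toM e A)ᵀ * (toM e A).map (· ^ 5) := by
  rw [gm, hr.toM_mm]
  congr 1
  · ext i j
    fin_cases i <;> fin_cases j <;> simp [toM, toV, tp]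
  · ext i j
    fin_cases i <;> fin_cases j <;> simp [toM, toV, cv, hr.toF_qc]

end CfsgLib.Geo.D3.CertU35
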