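/-
Reduced codes are determined by their values.
-/
import Cfsg.Agent.Geo.DimThree.CertU35.Field

set_option autoImplicit false

namespace CfsgLib.Geo.D3.CertU35

/-- A reduced vector. -/
def Red (v : Vec) : Prop := v.1 < 25 ∧ v.2.1 < 25 ∧ v.2.2 < 25

/-- A reduced matrix. -/
def RedM (A : Mx) : Prop := Red A.1 ∧ Red A.2.1 ∧ Red A.2.2

lemma qa_lt (x y : ℕ) : qa x y < 25 := by unfold qa; omega

lemma qm_lt (x y : ℕ) : qm x y < 25 := by unfold qm; omega

lemma qc_lt (x : ℕ) : qc x < 25 := by unfold qc; omega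

lemma red_mm (A B : Mx) : RedM (mm A B) := by
  simp [RedM, Red, mm, tp, mv, dot, qa_lt]

lemma red_dec (n : ℕ) : RedM (dec n) := by
  simp [RedM, Red, dec, decV, Nat.mod_lt]

lemma red_decV (n : ℕ) : Red (decV n) := by simp [Red, decV, Nat.mod_lt]

lemma red_sv (t : ℕ) (v : Vec) : Red (sv t v) := by simp [Red, sv, qm_lt]

lemma red_sm (t : ℕ) (A : Mx) : RedM (sm t A) := ⟨red_sv _ _, red_sv _ _, red_sv _ _⟩

lemma red_mv (A : Mx) (v : Vec) : Red (mv A v) := by simp [Red, mv, dot, qa_lt]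

lemma red_id : RedM idM := by simp [RedM, Red, idM]

variable {F : Type*} [Field F] {e : F}

lemma Root.toV_inj (hr : Root e) {u v : Vec} (hu : Red u) (hv : Red v) (h : toV e u = toV e v) : u = v :=
  Prod.ext (hr.toF_inj hu.1 hv.1 (congrFun h 0))
    (Prod.ext (hr.toF_inj hu.2.1 hv.2.1 (congrFun h 1)) (hr.toF_inj hu.2.2 hv.2.2 (congrFun h 2)))

lemma Root.toM_inj (hr : Root e) {A B : Mx} (hA : RedM A) (hB : RedM B) (h : toM e A = toM e B) : A = B := by
  refine Prod.ext (hr.toV_inj hA.1 hB.1 ?_) (Prod.ext (hr.toV_inj hA.2.1 hB.2.1 ?_) (hr.toV_inj hA.2.2 hB.2.2 ?_))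
  · funext j
    simpa [toM] using congrFun (congrFun h 0) j
  · funext j
    simpa [toM] using congrFun (congrFun h 1) j
  · funext j
    simpa [toM] using congrFun (congrFun h 2) j

end CfsgLib.Geo.D3.CertU35
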