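/-
The representation of `SL2(7)` in dimension three over the field of order 25, and the traces of any other one.
-/
import Cfsg.Agent.Geo.DimThree.CertU35.Field
import Cfsg.Agent.Geo.DimThree.NoTv.SpectraMat

set_option autoImplicit false
set_option linter.unusedSectionVars false
set_option linter.style.haveILetI false

namespace CfsgLib.Geo.D3.CertU35

open Matrix

/-- `SL2(7)`. -/
abbrev SL7 := Matrix.SpecialLinearGroup (Fin 2) (ZMod 7)

/-- The entries of an element. -/
def quad (X : SL7) : ℕ × ℕ × ℕ × ℕ :=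
  (((X : Matrix (Fin 2) (Fin 2) (ZMod 7)) 0 0).val, ((X : Matrix (Fin 2) (Fin 2) (ZMod 7)) 0 1).val,
    ((X : Matrix (Fin 2) (Fin 2) (ZMod 7)) 1 0).val, ((X : Matrix (Fin 2) (Fin 2) (ZMod 7)) 1 1).val)

lemma quad_lt (X : SL7) :
    (quad X).1 < 7 ∧ (quad X).2.1 < 7 ∧ (quad X).2.2.1 < 7 ∧ (quad X).2.2.2 < 7 := by
  refine ⟨?_, ?_, ?_, ?_⟩ <;> simp only [quad] <;> exact ZMod.val_lt _

lemma quad_det (X : SL7) :
    ((quad X).1 * (quad X).2.2.2 + 6 * (quad X).2.1 * (quad X).2.2.1) % 7 = 1 := by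
  rw [← ZMod.val_natCast]
  have h := X.2
  rw [Matrix.det_fin_two] at h
  have h7 : (7 : ZMod 7) = 0 := by decide
  rw [show (((quad X).1 * (quad X).2.2.2 + 6 * (quad X).2.1 * (quad X).2.2.1 : ℕ) : ZMod 7) = 1 from ?_]
  · rfl
  · simp only [quad, Nat.cast_add, Nat.cast_mul, Nat.cast_ofNat, ZMod.natCast_val, ZMod.cast_id', id_eq]
    linear_combination h + ((X : Matrix (Fin 2) (Fin 2) (ZMod 7)) 0 1 *
      (X : Matrix (Fin 2) (Fin 2) (ZMod 7)) 1 0) * h7

lemma allSL_quad {p : ℕ → ℕ → ℕ → ℕ → Bool} (h : allSL p = true) (X : SL7) :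
    p (quad X).1 (quad X).2.1 (quad X).2.2.1 (quad X).2.2.2 = true :=
  allSL_spec h (quad_lt X).1 (quad_lt X).2.1 (quad_lt X).2.2.1 (quad_lt X).2.2.2 (quad_det X)

lemma quad_injective : Function.Injective quad := by
  intro X Y h
  simp only [quad, Prod.mk.injEq] at h
  obtain ⟨h0, h1, h2, h3⟩ := h
  ext i j
  fin_cases i <;> fin_cases j
  · exact ZMod.val_injective 7 h0
  · exact ZMod.val_injective 7 h1
  · exact ZMod.val_injective 7 h2
  · exact ZMod.val_injective 7 h3

lemma quad_mul (X Y : SL7) : quad (X * Y) = m7 (quad X) (quad Y) := by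
  simp [quad, m7, Matrix.mul_apply, Fin.sum_univ_two, ZMod.val_add, ZMod.val_mul]

lemma quad_neg (X : SL7) : quad (-X) = n7 (quad X) := by
  have h : ∀ x : ZMod 7, (-x).val = 6 * x.val % 7 := by decide
  simp [quad, n7, h]

/-- The element with given entries. -/
def mk7 (x : ℕ × ℕ × ℕ × ℕ) : SL7 :=
  if h : (!![(x.1 : ZMod 7), (x.2.1 : ZMod 7); (x.2.2.1 : ZMod 7), (x.2.2.2 : ZMod 7)]).det = 1 then
    ⟨_, h⟩ else 1

lemma det_mk {a b c d : ℕ} (h : (a * d + 6 * b * c) % 7 = 1) :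
    (!![(a : ZMod 7), (b : ZMod 7); (c : ZMod 7), (d : ZMod 7)]).det = 1 := by
  rw [Matrix.det_fin_two]
  have h2 : ((a * d + 6 * b * c : ℕ) : ZMod 7) = 1 := by rw [← ZMod.natCast_mod, h, Nat.cast_one]
  have h7 : (7 : ZMod 7) = 0 := by decide
  push_cast at h2
  simp only [Matrix.of_apply, Matrix.cons_val', Matrix.cons_val_zero, Matrix.cons_val_one, Matrix.empty_val',
    Matrix.cons_val_fin_one]
  linear_combination h2 - ((b : ZMod 7) * (c : ZMod 7)) * h7

lemma coe_mk7 {a b c d : ℕ} (h : (a * d + 6 * b * c) % 7 = 1) :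
    ((mk7 (a, b, c, d) : SL7) : Matrix (Fin 2) (Fin 2) (ZMod 7)) =
      !![(a : ZMod 7), (b : ZMod 7); (c : ZMod 7), (d : ZMod 7)] := by
  rw [show mk7 (a, b, c, d) = ⟨_, det_mk h⟩ from dif_pos (det_mk h)]

lemma quad_mk {a b c d : ℕ} (ha : a < 7) (hb : b < 7) (hc : c < 7) (hd : d < 7)
    (h : (a * d + 6 * b * c) % 7 = 1) : quad (mk7 (a, b, c, d)) = (a, b, c, d) := by
  simp [quad, coe_mk7 h, Nat.mod_eq_of_lt, ha, hb, hc, hd]

lemma mk_quad (X : SL7) : mk7 (quad X) = X := by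
  apply quad_injective
  obtain ⟨ha, hb, hc, hd⟩ := quad_lt X
  exact quad_mk ha hb hc hd (quad_det X)

/-- The unipotent generator. -/
def U1 : SL7 := mk7 (1, 1, 0, 1)

/-- The generator of order four. -/
def W : SL7 := mk7 (0, 6, 1, 0)

lemma quad_U1 : quad U1 = (1, 1, 0, 1) := quad_mk (by norm_num) (by norm_num) (by norm_num) (by norm_num) (by norm_num)

lemma quad_W : quad W = (0, 6, 1, 0) := quad_mk (by norm_num) (by norm_num) (by norm_num) (by norm_num) (by norm_num)

lemma quad_one : quad 1 = (1, 0, 0, 1) := by decide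

lemma quad_U1_mul (X : SL7) : quad (U1 * X) = (((quad X).1 + (quad X).2.2.1) % 7,
    ((quad X).2.1 + (quad X).2.2.2) % 7, (quad X).2.2.1, (quad X).2.2.2) := by
  rw [quad_mul, quad_U1]
  obtain ⟨-, -, hc, hd⟩ := quad_lt X
  simp [m7, Nat.mod_eq_of_lt, hc, hd]

lemma quad_W_mul (X : SL7) : quad (W * X) = (6 * (quad X).2.2.1 % 7, 6 * (quad X).2.2.2 % 7,
    (quad X).1, (quad X).2.1) := by
  rw [quad_mul, quad_W]
  obtain ⟨ha, hb, -, -⟩ := quad_lt X
  simp [m7, Nat.mod_eq_of_lt, ha, hb]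

lemma quad_U1_pow (n : ℕ) : quad (U1 ^ n) = (1, n % 7, 0, 1) := by
  induction n with
  | zero => simp [quad_one]
  | succ n ih =>
    rw [pow_succ', quad_U1_mul, ih]
    simp [Nat.add_comm]

lemma U1_pow_seven : U1 ^ 7 = 1 := quad_injective (by rw [quad_U1_pow, quad_one])

lemma W_sq : W * W = -1 := quad_injective (by rw [quad_neg, quad_one, quad_W_mul, quad_W]; decide)

lemma W_four : W ^ 4 = 1 := by
  rw [show (4 : ℕ) = 2 * 2 from rfl, pow_mul, pow_two W, W_sq, pow_two, neg_mul_neg, one_mul]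

lemma six_seven : (6 : ZMod 7) = -1 := by decide

/-- The two generators generate. -/
theorem mem_closure (X : SL7) : X ∈ Submonoid.closure ({U1, W} : Set SL7) := by
  haveI : Fact (Nat.Prime 7) := ⟨by norm_num⟩
  set C := Submonoid.closure ({U1, W} : Set SL7)
  have hU : U1 ∈ C := Submonoid.subset_closure (Or.inl rfl)
  have hW : W ∈ C := Submonoid.subset_closure (Or.inr rfl)
  have hmain : ∀ Y : SL7, (Y : Matrix (Fin 2) (Fin 2) (ZMod 7)) 1 0 ≠ 0 → Y ∈ C := by
    intro Y hc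
    set c := (Y : Matrix (Fin 2) (Fin 2) (ZMod 7)) 1 0 with hcd
    set a := (Y : Matrix (Fin 2) (Fin 2) (ZMod 7)) 0 0 with had
    set d := (Y : Matrix (Fin 2) (Fin 2) (ZMod 7)) 1 1 with hdd
    have hU' : ∀ n : ℕ, ((U1 ^ n : SL7) : Matrix (Fin 2) (Fin 2) (ZMod 7)) = !![1, (n : ZMod 7); 0, 1] := by
      intro n
      induction n with
      | zero => simp [Matrix.one_fin_two]
      | succ n ih =>
        rw [pow_succ, Matrix.SpecialLinearGroup.coe_mul, ih]
        rw [U1, coe_mk7 (by norm_num)]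
        simp [add_comm]
    have hW' : (W : Matrix (Fin 2) (Fin 2) (ZMod 7)) = !![0, -1; 1, 0] := by
      rw [W, coe_mk7 (by norm_num)]
      simp [six_seven]
    have hdet := Y.2
    rw [Matrix.det_fin_two] at hdet
    have hY : Y = U1 ^ ((a + 1) / c).val * W * U1 ^ c.val * W * U1 ^ ((1 + d) / c).val := by
      ext i j
      simp only [Matrix.SpecialLinearGroup.coe_mul, hU', hW', ZMod.natCast_val, ZMod.cast_id', id_eq,
        Matrix.mul_fin_two]
      fin_cases i <;> fin_cases j <;> simp [← hcd, ← had, ← hdd] <;> field_simp <;>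
        first
          | ring1
          | linear_combination hdet
          | linear_combination -hdet
    rw [hY]
    exact mul_mem (mul_mem (mul_mem (mul_mem (pow_mem hU _) hW) (pow_mem hU _)) hW) (pow_mem hU _)
  by_cases hc : (X : Matrix (Fin 2) (Fin 2) (ZMod 7)) 1 0 = 0
  · have hX : X = W ^ 3 * (W * X) := by rw [← mul_assoc, ← pow_succ, W_four, one_mul]
    rw [hX]
    refine mul_mem (pow_mem hW _) (hmain _ fun h => ?_)
    have h' := congrArg ZMod.val h
    have hh : (quad (W * X)).2.2.1 = (quad X).1 := by rw [quad_W_mul]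
    rw [ZMod.val_zero] at h'
    change (quad (W * X)).2.2.1 = 0 at h'
    have hd := quad_det X
    rw [hh] at h'
    rw [h', show (quad X).2.2.1 = 0 by simp [quad, hc]] at hd
    simp at hd
  · exact hmain X hc

section rho

variable {F : Type*} [Field F] {e : F}

/-- The matrix of an element. -/
def rhoMat (e : F) (X : SL7) : Matrix (Fin 3) (Fin 3) F :=
  toM e (tb (quad X).1 (quad X).2.1 (quad X).2.2.1 (quad X).2.2.2)

lemma rhoMat_one : rhoMat e 1 = 1 := by rw [rhoMat, quad_one, check_one.1, toM_id]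

variable (hr : Root e)
include hr

lemma rhoMat_mul (X Y : SL7) : rhoMat e (X * Y) = rhoMat e X * rhoMat e Y := by
  have hT : ∀ Z, rhoMat e (U1 * Z) = toM e Tm * rhoMat e Z := fun Z => by
    have h := allSL_quad check_gen Z
    simp only [Bool.and_eq_true, beq_iff_eq] at h
    rw [rhoMat, quad_U1_mul, rhoMat, ← hr.toM_mm, h.1]
  have hS : ∀ Z, rhoMat e (W * Z) = toM e Sm * rhoMat e Z := fun Z => by
    have h := allSL_quad check_gen Z
    simp only [Bool.and_eq_true, beq_iff_eq] at h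
    rw [rhoMat, quad_W_mul, rhoMat, ← hr.toM_mm, h.2]
  have key : ∀ Z ∈ Submonoid.closure ({U1, W} : Set SL7), ∀ V,
      rhoMat e (Z * V) = rhoMat e Z * rhoMat e V := by
    intro Z hZ
    induction hZ using Submonoid.closure_induction with
    | mem z hz =>
      intro V
      rcases hz with rfl | rfl
      · have h1 := hT 1
        rw [mul_one, rhoMat_one, mul_one] at h1
        rw [hT, h1]
      · have h1 := hS 1
        rw [mul_one, rhoMat_one, mul_one] at h1
        rw [hS, h1]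
    | one => intro V; rw [one_mul, rhoMat_one, one_mul]
    | mul a b _ _ ha hb => intro V; rw [mul_assoc, ha, hb, ha b, mul_assoc]
  exact key X (mem_closure X) Y

/-- The representation. -/
def rho : SL7 →* GL (Fin 3) F :=
  MonoidHom.toHomUnits { toFun := rhoMat e, map_one' := rhoMat_one, map_mul' := rhoMat_mul hr }

lemma rho_val (X : SL7) : ((rho hr X : GL (Fin 3) F) : Matrix (Fin 3) (Fin 3) F) = rhoMat e X := rfl

lemma rho_U1 : ((rho hr U1 : GL (Fin 3) F) : Matrix (Fin 3) (Fin 3) F) = toM e Tm := by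
  rw [rho_val, rhoMat, quad_U1]; rfl

lemma rho_W : ((rho hr W : GL (Fin 3) F) : Matrix (Fin 3) (Fin 3) F) = toM e Sm := by
  rw [rho_val, rhoMat, quad_W]; rfl

lemma rho_neg_one : rho hr (-1) = 1 :=
  Units.ext (by rw [rho_val, rhoMat, quad_neg, quad_one]; exact (congrArg (toM e) check_one.2).trans toM_id)

/-- The nine matrices span. -/
lemma rho_span : Submodule.span F (Set.range fun X => ((rho hr X : GL (Fin 3) F) : Matrix (Fin 3) (Fin 3) F)) = ⊤ := by
  set N := Submodule.span F (Set.range fun X => ((rho hr X : GL (Fin 3) F) : Matrix (Fin 3) (Fin 3) F))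
  have hcomb : ∀ cs : List ℕ, toM e (comb cs) ∈ N := by
    intro cs
    rw [comb]
    have : ∀ l : List ℕ, (∀ k ∈ l, k < 9) → toM e (l.foldr (fun k A =>
        let x := spanData.getD k (1, 0, 0, 1)
        am (sm (cs.getD k 0) (tb x.1 x.2.1 x.2.2.1 x.2.2.2)) A) ((0, 0, 0), (0, 0, 0), (0, 0, 0))) ∈ N := by
      intro l
      induction l with
      | nil =>
        intro _
        convert N.zero_mem
        ext i j
        fin_cases i <;> fin_cases j <;> simp [toM, toV, toF_zero]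
      | cons k l ih =>
        intro hl
        simp only [List.foldr_cons]
        rw [hr.toM_am, hr.toM_sm]
        refine add_mem (N.smul_mem _ (Submodule.subset_span ?_)) (ih fun j hj => hl j (List.mem_cons_of_mem _ hj))
        obtain ⟨x, hx, hxe⟩ : ∃ x ∈ spanData, spanData.getD k (1, 0, 0, 1) = x := by
          have hk : k < spanData.length := lt_of_lt_of_eq (hl k List.mem_cons_self) rfl
          exact ⟨_, List.getElem_mem hk, List.getD_eq_getElem _ _ hk⟩
        obtain ⟨ha, hb, hc, hd, hs⟩ := check_span_sl x hx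
        refine ⟨mk7 x, ?_⟩
        show rhoMat e (mk7 x) = _
        rw [rhoMat, quad_mk ha hb hc hd hs, hxe]
    exact this _ fun k hk => List.mem_range.1 hk
  rw [eq_top_iff]
  intro A _
  rw [Matrix.matrix_eq_sum_single A]
  refine sum_mem fun i _ => sum_mem fun j _ => ?_
  rw [show Matrix.single i j (A i j) = A i j • toM e (unitM (3 * i.val + j.val)) from ?_]
  · refine N.smul_mem _ ?_
    rw [← check_span _ (by omega)]
    exact hcomb _
  · ext k l
    fin_cases i <;> fin_cases j <;> fin_cases k <;> fin_cases l <;>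
      simp [toM, toV, unitM, dec, decV, toF_zero, toF_one]

end rho

section traces

variable {F : Type*} [Field F]

/-- Every element is conjugate to its representative up to sign. -/
lemma conj_repr (φ : SL7 →* GL (Fin 3) F) (hneg : φ (-1) = 1) (X : SL7) :
    ∃ Y, φ X = φ Y * φ (mk7 (rep (repr (quad X).1 (quad X).2.1 (quad X).2.2.1 (quad X).2.2.2))) * (φ Y)⁻¹ := by
  have h := allSL_quad check_wit X
  generalize hy : conjr (quad X).1 (quad X).2.1 (quad X).2.2.1 (quad X).2.2.2 = y at h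
  generalize hk : repr (quad X).1 (quad X).2.1 (quad X).2.2.1 (quad X).2.2.2 = k at h
  simp only [Bool.and_eq_true, Bool.or_eq_true, beq_iff_eq, isSL] at h
  obtain ⟨hy1, hlr⟩ := h
  have hylt : y.1 < 7 ∧ y.2.1 < 7 ∧ y.2.2.1 < 7 ∧ y.2.2.2 < 7 := by
    rw [← hy]; exact ⟨Nat.mod_lt _ (by norm_num), Nat.mod_lt _ (by norm_num), Nat.mod_lt _ (by norm_num),
      Nat.mod_lt _ (by norm_num)⟩
  have hqY : quad (mk7 y) = y := quad_mk hylt.1 hylt.2.1 hylt.2.2.1 hylt.2.2.2 hy1
  have hqR : quad (mk7 (rep k)) = rep k := by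
    match k with
    | 0 | 1 | 2 | 3 | 4 | n + 5 =>
      exact quad_mk (by norm_num [rep]) (by norm_num [rep]) (by norm_num [rep]) (by norm_num [rep])
        (by norm_num [rep])
  have hXY : φ (X * mk7 y) = φ (mk7 y * mk7 (rep k)) := by
    rcases hlr with h1 | h1
    · rw [show X * mk7 y = mk7 y * mk7 (rep k) from quad_injective (by rw [quad_mul, quad_mul, hqY, hqR]; exact h1)]
    · rw [show X * mk7 y = -(mk7 y * mk7 (rep k)) from
        quad_injective (by rw [quad_mul, quad_neg, quad_mul, hqY, hqR]; exact h1), ← neg_one_mul, map_mul, hneg,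
        one_mul]
  rw [map_mul, map_mul, ← eq_mul_inv_iff_mul_eq] at hXY
  exact ⟨_, hXY⟩

/-- Traces are constant on the classes. -/
lemma trace_repr (φ : SL7 →* GL (Fin 3) F) (hneg : φ (-1) = 1) (X : SL7) :
    ((φ X : GL (Fin 3) F) : Matrix (Fin 3) (Fin 3) F).trace =
      ((φ (mk7 (rep (repr (quad X).1 (quad X).2.1 (quad X).2.2.1 (quad X).2.2.2))) : GL (Fin 3) F) :
        Matrix (Fin 3) (Fin 3) F).trace := by
  obtain ⟨Y, hY⟩ := conj_repr φ hneg X
  rw [hY, Units.val_mul, Units.val_mul, Matrix.trace_units_conj]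

open Spec in
/-- A faithful representation with determinant one has the traces of the model for one root of two. -/
theorem exists_root (φ : SL7 →* GL (Fin 3) F) (h5 : (5 : F) = 0) (hneg : φ (-1) = 1)
    (hdet : ∀ X, ((φ X : GL (Fin 3) F) : Matrix (Fin 3) (Fin 3) F).det = 1)
    (hns : ∀ X, X ≠ 1 → X ≠ -1 → ∀ c : F, ((φ X : GL (Fin 3) F) : Matrix (Fin 3) (Fin 3) F) ≠ c • 1) :
    ∃ (e : F) (hr : Root e), ∀ X, ((φ X : GL (Fin 3) F) : Matrix (Fin 3) (Fin 3) F).trace =
      ((rho hr X : GL (Fin 3) F) : Matrix (Fin 3) (Fin 3) F).trace := by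
  have hpow : ∀ (X : SL7) (n : ℕ),
      ((φ X : GL (Fin 3) F) : Matrix (Fin 3) (Fin 3) F) ^ n = ((φ (X ^ n) : GL (Fin 3) F) : Matrix (Fin 3) (Fin 3) F) :=
    fun X n => by rw [map_pow, Units.val_pow_eq_pow_val]
  have hone : ∀ {Z : SL7}, (Z = 1 ∨ Z = -1) → ((φ Z : GL (Fin 3) F) : Matrix (Fin 3) (Fin 3) F) = 1 := by
    rintro Z (rfl | rfl) <;> simp [hneg]
  have hadj : ∀ X, ((φ X : GL (Fin 3) F) : Matrix (Fin 3) (Fin 3) F).adjugate =
      ((φ X⁻¹ : GL (Fin 3) F) : Matrix (Fin 3) (Fin 3) F) := fun X => by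
    calc _ = ((φ X⁻¹ : GL (Fin 3) F) : Matrix (Fin 3) (Fin 3) F) * ((φ X : GL (Fin 3) F) : Matrix (Fin 3) (Fin 3) F) *
          ((φ X : GL (Fin 3) F) : Matrix (Fin 3) (Fin 3) F).adjugate := by
            rw [← Units.val_mul, ← map_mul, inv_mul_cancel, map_one, Units.val_one, one_mul]
      _ = _ := by rw [mul_assoc, Matrix.mul_adjugate, hdet, one_smul, mul_one]
  have hR : ∀ k, k ≠ 0 → mk7 (rep k) ≠ 1 ∧ mk7 (rep k) ≠ -1 := by
    intro k hk
    match k with
    | 0 => exact absurd rfl hk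
    | 1 | 2 | 3 | 4 => decide
    | n + 5 => show mk7 (1, 6, 0, 1) ≠ 1 ∧ mk7 (1, 6, 0, 1) ≠ -1; decide
  have tW : ((φ (mk7 (rep 1)) : GL (Fin 3) F) : Matrix (Fin 3) (Fin 3) F).trace = -1 :=
    (trace_of_sq (hdet _) (hns _ (hR 1 one_ne_zero).1 (hR 1 one_ne_zero).2)
      (by rw [hpow]; exact hone (by decide))).1
  have t3 : ((φ (mk7 (rep 2)) : GL (Fin 3) F) : Matrix (Fin 3) (Fin 3) F).trace = 0 :=
    (trace_of_cube (hdet _) (hns _ (hR 2 two_ne_zero).1 (hR 2 two_ne_zero).2)
      (by rw [hpow]; exact hone (by decide))).1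
  have t4 : ((φ (mk7 (rep 3)) : GL (Fin 3) F) : Matrix (Fin 3) (Fin 3) F).trace = 1 := by
    have hn := hns _ (hR 3 three_ne_zero).1 (hR 3 three_ne_zero).2
    refine trace_of_four (hdet _) hn (by rw [hpow]; exact hone (by decide)) (fun h2 => ?_) ?_
    · rw [hpow] at h2
      refine hns (mk7 (rep 3) ^ 2) (by decide) (by decide) 1 ?_
      rw [h2, one_smul]
    · rw [hadj, trace_repr φ hneg, show quad ((mk7 (rep 3))⁻¹) = (3, 1, 6, 0) by decide, check_rep_pow.2.2]
  have hU4 : ∀ n, repr 1 n 0 1 = 4 → n < 7 →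
      ((φ (U1 ^ n) : GL (Fin 3) F) : Matrix (Fin 3) (Fin 3) F).trace =
        ((φ U1 : GL (Fin 3) F) : Matrix (Fin 3) (Fin 3) F).trace := fun n hn h7 => by
    rw [trace_repr φ hneg, quad_U1_pow, Nat.mod_eq_of_lt h7, hn]; rfl
  obtain ⟨hq, hq'⟩ := trace_of_seven (M := ((φ U1 : GL (Fin 3) F) : Matrix (Fin 3) (Fin 3) F))
    (fun h2 => by
      have : (1 : F) = 0 := by linear_combination h5 - 2 * h2
      exact one_ne_zero this)
    (hdet _) (hns _ (hR 4 four_ne_zero).1 (hR 4 four_ne_zero).2) (by rw [hpow, U1_pow_seven]; exact hone (Or.inl rfl))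
    (by rw [← pow_two, hpow, hU4 2 check_rep_pow.1 (by norm_num)])
    (by rw [show ∀ M : Matrix (Fin 3) (Fin 3) F, M * M * (M * M) = M ^ 4 from fun M => by noncomm_ring, hpow,
      hU4 4 check_rep_pow.2.1 (by norm_num)])
  obtain ⟨a, ha⟩ : ∃ a, ((φ U1 : GL (Fin 3) F) : Matrix (Fin 3) (Fin 3) F).trace = a := ⟨_, rfl⟩
  rw [hadj, ha] at hq'
  rw [ha] at hq
  have hr : Root (a - 2) := ⟨h5, by linear_combination hq - a * h5⟩
  refine ⟨a - 2, hr, fun X => ?_⟩
  rw [trace_repr φ hneg X, trace_repr (rho hr) (rho_neg_one hr) X]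
  generalize repr (quad X).1 (quad X).2.1 (quad X).2.2.1 (quad X).2.2.2 = k
  have hv : ∀ {a b c d : ℕ}, a < 7 → b < 7 → c < 7 → d < 7 → (a * d + 6 * b * c) % 7 = 1 →
      ((rho hr (mk7 (a, b, c, d)) : GL (Fin 3) F) : Matrix (Fin 3) (Fin 3) F).trace =
        toF (_ : F) (tr (tb a b c d)) := fun ha hb hc hd hs => by
    rw [rho_val, rhoMat, quad_mk ha hb hc hd hs, hr.trace_toM]
  obtain ⟨c0, c1, c2, c3, c4, c5⟩ := check_rep_trace
  match k with
  | 0 =>
    rw [show mk7 (rep 0) = 1 by decide, map_one, map_one]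
  | 1 =>
    rw [tW, show rep 1 = (0, 6, 1, 0) from rfl, hv (by norm_num) (by norm_num) (by norm_num) (by norm_num)
      (by norm_num), c1, hr.toF_four]
  | 2 =>
    rw [t3, show rep 2 = (0, 6, 1, 1) from rfl, hv (by norm_num) (by norm_num) (by norm_num) (by norm_num)
      (by norm_num), c2, toF_zero]
  | 3 =>
    rw [t4, show rep 3 = (0, 6, 1, 3) from rfl, hv (by norm_num) (by norm_num) (by norm_num) (by norm_num)
      (by norm_num), c3, toF_one]
  | 4 =>
    rw [show mk7 (rep 4) = U1 from rfl, ha, show U1 = mk7 (1, 1, 0, 1) from rfl, hv (by norm_num) (by norm_num)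
      (by norm_num) (by norm_num) (by norm_num), c4]
    show a = ((7 : ℕ) : F) + ((7 / 5 : ℕ) : F) * (a - 2)
    norm_num
    linear_combination -h5
  | n + 5 =>
    rw [show mk7 (rep (n + 5)) = U1⁻¹ from (by decide : mk7 (1, 6, 0, 1) = U1⁻¹), hq',
      ← (by decide : mk7 (1, 6, 0, 1) = U1⁻¹), hv (by norm_num) (by norm_num) (by norm_num) (by norm_num)
        (by norm_num), c5]
    show -1 - a = ((22 : ℕ) : F) + ((22 / 5 : ℕ) : F) * (a - 2)
    norm_num
    linear_combination (-3 - a) * h5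

end traces

end CfsgLib.Geo.D3.CertU35
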